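import Groth.Agent.Sga3B.Parab.Retr
import Groth.Agent.Sga3B.Parab.Inter
import Groth.Agent.Sga3B.DimFib
import Groth.Agent.Sga3B.NormBc
import Groth.Agent.Sga3B.RedIso
import Groth.Agent.Sga3.H794.ChevInd
import Groth.Agent.Sga3C.SubGrp
import Groth.Agent.Red.K216.DecDef

/-!
# Equivariant idempotent endomorphisms of a group with simple geometric fibres

Node R of the plan of helper216 for S16645: over an open and closed subset of the base such an
endomorphism is trivial, over the complement it is the identity.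
-/

set_option autoImplicit false
universe u

open CategoryTheory MonoidalCategory CartesianMonoidalCategory MonObj GrpObj Limits AlgebraicGeometry

namespace K259.Rigid

variable {B : Scheme.{u}}

section fix

variable {H : Over B} [GrpObj H]

/-- The fixed locus of an idempotent endomorphism of a smooth affine group, when it is stable under the group
law, is a smooth affine closed subgroup. -/
theorem exists_fix [IsAffineHom H.hom] [Smooth H.hom] (ψ : H ⟶ H) (hid : ψ ≫ ψ = ψ)
    (hmul : ∀ (X : Over B) (g h : X ⟶ H), g ≫ ψ = g → h ≫ ψ = h → (g * h) ≫ ψ = g * h)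
    (hone : ∀ (X : Over B), (1 : X ⟶ H) ≫ ψ = 1)
    (hinv : ∀ (X : Over B) (g : X ⟶ H), g ≫ ψ = g → g⁻¹ ≫ ψ = g⁻¹) :
    ∃ (F : Over B) (_ : GrpObj F) (i : F ⟶ H) (q : H ⟶ F), IsMonHom i ∧ IsClosedImmersion i.left ∧
      i ≫ q = 𝟙 F ∧ q ≫ i = ψ ∧ IsAffineHom F.hom ∧ Smooth F.hom ∧
      ∀ (X : Over B) (g : X ⟶ H), g ≫ ψ = g → ∃ z : X ⟶ F, z ≫ i = g := by
  let F : Over B := equalizer ψ (𝟙 H)
  let i : F ⟶ H := equalizer.ι ψ (𝟙 H)
  let q : H ⟶ F := equalizer.lift ψ (by rw [hid, Category.comp_id])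
  have hqi : q ≫ i = ψ := equalizer.lift_ι _ _
  have hiψ : i ≫ ψ = i := by
    have := equalizer.condition ψ (𝟙 H)
    rwa [Category.comp_id] at this
  have hiq : i ≫ q = 𝟙 F := by
    have : Mono i := inferInstanceAs (Mono (equalizer.ι ψ (𝟙 H)))
    rw [← cancel_mono i, Category.assoc, hqi, hiψ, Category.id_comp]
  have hcl : IsClosedImmersion i.left := inferInstanceAs (IsClosedImmersion (equalizer.ι ψ (𝟙 H)).left)
  have haff : IsAffineHom F.hom := by
    rw [← Over.w i]
    infer_instance
  have hfac : ∀ (X : Over B) (g : X ⟶ H), g ≫ ψ = g → ∃ z : X ⟶ F, z ≫ i = g := fun X g hg =>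
    ⟨equalizer.lift g (by rw [hg, Category.comp_id]), equalizer.lift_ι _ _⟩
  have hfix : ∀ (X : Over B) (z : X ⟶ F), (z ≫ i) ≫ ψ = z ≫ i := fun X z => by
    rw [Category.assoc, hiψ]
  have hsm : Smooth F.hom := Groth.Agent.Sga3B.Parab.Retr.smooth_of_retract i q hiq
  have hmono : Mono i := inferInstanceAs (Mono (equalizer.ι ψ (𝟙 H)))
  obtain ⟨hG, hM⟩ := Groth.Agent.Sga3C.SubGrp.exists_grpObj_of_mono i
    (by
      obtain ⟨z, hz⟩ := hfac _ ((fst F F ≫ i) * (snd F F ≫ i)) (hmul _ _ _ (hfix _ _) (hfix _ _))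
      refine ⟨z, hz.trans ?_⟩
      rw [Hom.mul_def]
      congr 1)
    (by
      obtain ⟨z, hz⟩ := hfac _ (1 : 𝟙_ (Over B) ⟶ H) (hone _)
      refine ⟨z, hz.trans ?_⟩
      rw [Hom.one_def, toUnit_unique (toUnit (𝟙_ (Over B))) (𝟙 _), Category.id_comp])
    (by
      obtain ⟨z, hz⟩ := hfac _ i⁻¹ (hinv _ _ hiψ)
      exact ⟨z, hz.trans (Hom.inv_def i)⟩)
  exact ⟨F, hG, i, q, hM, hcl, hiq, hqi, haff, hsm, hfac⟩

end fix

section triv

/-- The point of the base under the geometric point. -/
theorem geomPt_apply (s : B) (y : Spec (CommRingCat.of (AlgebraicClosure (B.residueField s)))) :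
    Red.geomPt s y = s := by
  change (B.fromSpecResidueField s) _ = s
  exact B.fromSpecResidueField_apply s _

/-- A smooth affine group whose geometric fibres over an open set are trivial has at most one point with values
in a scheme over this open set. -/
theorem pt_unique {F : Over B} [GrpObj F] [IsAffineHom F.hom] [Smooth F.hom] (U : B.Opens)
    (h : ∀ s ∈ U, Red.IsTrivialGrp (Red.geomFibre s F)) (X : Over B) (hX : Set.range X.hom ⊆ (U : Set B))
    (z z' : X ⟶ F) : z = z' := by
  have h1 : Smooth (Red.bc U.ι F).hom := inferInstanceAs (Smooth (pullback.snd F.hom U.ι))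
  have h2 : IsAffineHom (Red.bc U.ι F).hom :=
    MorphismProperty.of_isPullback (P := @IsAffineHom) (IsPullback.of_hasPullback F.hom U.ι) inferInstance
  have htr : Red.IsTrivialGrp (Red.bc U.ι F) := by
    refine Groth.Agent.Sga3B.Parab.Retr.isTrivialGrp_of_fibres _ fun s => ?_
    obtain ⟨b, hb, hbs⟩ : ∃ b : B, b ∈ U ∧ U.ι s = b := ⟨U.ι s, s.2, rfl⟩
    have hr : Set.range (Red.geomPt b) ⊆ Set.range U.ι := by
      rintro _ ⟨y, rfl⟩
      rw [geomPt_apply]
      exact ⟨s, hbs⟩
    refine ⟨AlgebraicClosure (B.residueField b), inferInstance, IsOpenImmersion.lift U.ι (Red.geomPt b) hr,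
      ?_, ?_⟩
    · apply U.ι.injective
      have key : ∀ y : Spec (CommRingCat.of (AlgebraicClosure (B.residueField b))),
          U.ι (IsOpenImmersion.lift U.ι (Red.geomPt b) hr y) = b := fun y => by
        rw [← Scheme.Hom.comp_apply, IsOpenImmersion.lift_fac, geomPt_apply]
      exact (key _).trans hbs.symm
    · have key : ∀ t' : Spec (CommRingCat.of (AlgebraicClosure (B.residueField b))) ⟶ B, t' = Red.geomPt b →
          Red.IsTrivialGrp (Red.bc t' F) := by
        rintro _ rfl
        exact h b hb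
      exact Groth.Agent.Sga3B.RedIso.isTrivialGrp_of_iso
        ((Over.pullbackComp (IsOpenImmersion.lift U.ι (Red.geomPt b) hr) U.ι).app F)
        (key _ (IsOpenImmersion.lift_fac _ _ _))
  have hiso : IsIso (pullback.snd F.hom U.ι) := htr
  have hr : Set.range X.hom ⊆ Set.range U.ι := by
    rw [Scheme.Opens.range_ι]
    exact hX
  have ha : IsOpenImmersion.lift U.ι X.hom hr ≫ U.ι = X.hom := IsOpenImmersion.lift_fac _ _ _
  have e : pullback.lift z.left (IsOpenImmersion.lift U.ι X.hom hr) ((Over.w z).trans ha.symm) =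
      pullback.lift z'.left (IsOpenImmersion.lift U.ι X.hom hr) ((Over.w z').trans ha.symm) := by
    rw [← cancel_mono (pullback.snd F.hom U.ι), pullback.lift_snd, pullback.lift_snd]
  have e1 := congrArg (· ≫ pullback.fst F.hom U.ι) e
  simp only [pullback.lift_fst] at e1
  exact Over.OverMorphism.ext e1

/-- If the geometric fibre at `s` is trivial its dimension is less than one. -/
theorem dim_lt_one_iff {F : Over B} [GrpObj F] [Smooth F.hom] (s : B)
    (hc : ConnectedSpace (Red.geomFibre s F).left) :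
    topologicalKrullDim ↥(Red.geomFibre s F).left < 1 ↔ Red.IsTrivialGrp (Red.geomFibre s F) := by
  constructor
  · intro h
    by_contra hn
    have : Smooth (Red.geomFibre s F).hom := inferInstanceAs (Smooth (pullback.snd F.hom (Red.geomPt s)))
    exact absurd (Groth.Agent.Sga3.H794.ChevInd.one_le_dim_of_not_isIso (Red.geomFibre s F) hn) (not_le.mpr h)
  · intro h
    have hi : IsIso (Red.geomFibre s F).hom := h
    have h1 : topologicalKrullDim ↥(Red.geomFibre s F).left =
        topologicalKrullDim ↥(Spec (CommRingCat.of (AlgebraicClosure (B.residueField s)))) :=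
      IsHomeomorph.topologicalKrullDim_eq _ (Red.geomFibre s F).hom.homeomorph.isHomeomorph
    rw [h1]
    have h2 : Subsingleton ↥(Spec (CommRingCat.of (AlgebraicClosure (B.residueField s)))) :=
      inferInstanceAs (Subsingleton (PrimeSpectrum (AlgebraicClosure (B.residueField s))))
    have h3 : topologicalKrullDim ↥(Spec (CommRingCat.of (AlgebraicClosure (B.residueField s)))) = 0 := by
      refine (PrimeSpectrum.topologicalKrullDim_eq_ringKrullDim (AlgebraicClosure (B.residueField s))).trans ?_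
      exact ringKrullDim_eq_zero_of_field _
    rw [h3]
    norm_num

end triv

section dich

variable {H : Over B} [GrpObj H]

/-- The kernel of an endomorphism which is the identity on a geometric fibre has trivial fibre there. -/
theorem trivial_of_isIso {S' : Scheme.{u}} (t : S' ⟶ B) (φ : H ⟶ H) {F F' : Over B} [GrpObj F'] (i : F ⟶ H)
    (i' : F' ⟶ H) [IsMonHom i'] [Mono i'] (hi : i ≫ φ = i) (hi' : i' ≫ φ = 1)
    (hiso : IsIso ((Over.pullback t).map i)) : Red.IsTrivialGrp (Red.bc t F') := by
  have hφ : (Over.pullback t).map φ = 𝟙 _ := by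
    rw [← cancel_epi ((Over.pullback t).map i), ← Functor.map_comp, hi, Category.comp_id]
  have hm : Mono ((Over.pullback t).map i') := inferInstance
  have h1 : (Over.pullback t).map i' = (Over.pullback t).map (toUnit F') ≫ (Over.pullback t).map η[F'] ≫
      (Over.pullback t).map i' := by
    have h2 : (Over.pullback t).map i' ≫ (Over.pullback t).map φ = (Over.pullback t).map (1 : F' ⟶ H) := by
      rw [← Functor.map_comp, hi']
    rw [hφ, Category.comp_id] at h2
    rw [← Functor.map_comp, ← Functor.map_comp, IsMonHom.one_hom, h2]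
    congr 1
  have h3 : (Over.pullback t).map (toUnit F') ≫ (Over.pullback t).map η[F'] = 𝟙 _ := by
    rw [← cancel_mono ((Over.pullback t).map i'), Category.assoc, ← h1, Category.id_comp]
  have h4 : (Over.pullback t).map η[F'] ≫ (Over.pullback t).map (toUnit F') = 𝟙 _ := by
    rw [← Functor.map_comp, toUnit_unique (η[F'] ≫ toUnit F') (𝟙 _), CategoryTheory.Functor.map_id]
  have h5 : IsIso ((Over.pullback t).map (toUnit F')) := ⟨_, h3, h4⟩
  have h6 : ((Over.pullback t).map (toUnit F')).left ≫ ((Over.pullback t).obj (𝟙_ (Over B))).hom =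
      (Red.bc t F').hom := Over.w _
  have h7 : IsIso ((Over.pullback t).obj (𝟙_ (Over B))).hom :=
    inferInstanceAs (IsIso (pullback.snd (𝟙 B) t))
  have h8 : IsIso ((Over.pullback t).map (toUnit F')).left :=
    inferInstanceAs (IsIso ((Over.forget _).map ((Over.pullback t).map (toUnit F'))))
  change IsIso (Red.bc t F').hom
  rw [← h6]
  infer_instance

end dich

open K216.DecDef

/-- Node R: an equivariant idempotent endomorphism of a semisimple group with simple geometric fibres is trivial
over an open and closed subset of the base and the identity over the complement. -/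
theorem nodeR {H : Over B} [GrpObj H] (hH : Red.IsSemisimple H) (hs : SimpleFibres H)
    (φ : H ⟶ H) [IsMonHom φ] (hid : φ ≫ φ = φ)
    (heq : ∀ (X : Over B) (h g : X ⟶ H), (h * g * h⁻¹) ≫ φ = h * (g ≫ φ) * h⁻¹) :
    ∃ U : B.Opens, IsClosed (U : Set B) ∧
      (∀ (X : Over B) (g : X ⟶ H), Set.range X.hom ⊆ (U : Set B) → g ≫ φ = 1) ∧
      (∀ (X : Over B) (g : X ⟶ H), Set.range X.hom ⊆ (U : Set B)ᶜ → g ≫ φ = g) := by
  have haff : IsAffineHom H.hom := hH.1
  have hsm : Smooth H.hom := hH.2.1
  -- the fixed points of `φ`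
  obtain ⟨F, _, i, q, hiM, hicl, hiq, hqi, hFaff, hFsm, hFfac⟩ := exists_fix φ hid
    (fun X g h hg hh => by rw [MonObj.mul_comp, hg, hh]) (fun X => by rw [MonObj.one_comp])
    (fun X g hg => by rw [GrpObj.inv_comp, hg])
  have hiφ : i ≫ φ = i := by rw [← hqi, ← Category.assoc, hiq, Category.id_comp]
  -- the kernel of `φ`
  let ψ : H ⟶ H := 𝟙 H * φ⁻¹
  have hψ : ∀ (X : Over B) (g : X ⟶ H), g ≫ ψ = g * (g ≫ φ)⁻¹ := fun X g => by
    change g ≫ (𝟙 H * φ⁻¹) = _
    rw [MonObj.comp_mul, Category.comp_id, GrpObj.comp_inv]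
  have hψφ : ∀ (X : Over B) (g : X ⟶ H), (g ≫ ψ) ≫ φ = 1 := fun X g => by
    rw [hψ, MonObj.mul_comp, GrpObj.inv_comp, Category.assoc, hid, mul_inv_cancel]
  have hfix : ∀ (X : Over B) (g : X ⟶ H), g ≫ ψ = g ↔ g ≫ φ = 1 := fun X g => by
    rw [hψ]
    constructor
    · intro h
      have h1 : (g ≫ φ)⁻¹ = 1 := by
        calc (g ≫ φ)⁻¹ = g⁻¹ * (g * (g ≫ φ)⁻¹) := by group
          _ = 1 := by rw [h, inv_mul_cancel]
      exact inv_eq_one.mp h1
    · intro h
      rw [h, inv_one, _root_.mul_one]
  obtain ⟨F', _, i', q', hiM', hicl', hiq', hqi', hFaff', hFsm', hFfac'⟩ := exists_fix ψ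
    ((hfix _ _).2 (by
      have := hψφ _ (𝟙 H)
      rwa [Category.id_comp] at this))
    (fun X g h hg hh => by
      rw [hfix] at hg hh ⊢
      rw [MonObj.mul_comp, hg, hh, _root_.mul_one])
    (fun X => by rw [hfix, MonObj.one_comp])
    (fun X g hg => by
      rw [hfix] at hg ⊢
      rw [GrpObj.inv_comp, hg, inv_one])
  have hiφ' : i' ≫ φ = 1 := by
    rw [← hfix, ← hqi', ← Category.assoc, hiq', Category.id_comp]
  have hmono : Mono i := by
    have : Mono i.left := inferInstance
    exact (Over.forget B).mono_of_mono_map this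
  have hmono' : Mono i' := by
    have : Mono i'.left := inferInstance
    exact (Over.forget B).mono_of_mono_map this
  have hnorm : AlgGrp.IsNormalHom i := by
    intro X g n
    refine hFfac X _ ?_ |>.imp fun z hz => hz.symm
    rw [heq, Category.assoc, hiφ]
  have hconn : ∀ s : B, ConnectedSpace (Red.geomFibre s F).left := fun s =>
    Groth.Agent.Sga3B.Parab.Retr.connectedSpace_of_retract (Red.geomPt s) i q hiq (hH.2.2 s).1.2.2.1
  have hloc := Groth.Agent.Sga3B.DimFib.isLocallyConstant_dim_geomFibre B F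
  let W : Set B := {s | topologicalKrullDim ↥(Red.geomFibre s F).left < 1}
  have hWo : IsOpen W := hloc {d | d < 1}
  have hWc : IsClosed W := by
    rw [← isOpen_compl_iff]
    exact hloc {d | d < 1}ᶜ
  refine ⟨⟨W, hWo⟩, hWc, fun X g hX => ?_, fun X g hX => ?_⟩
  · have h1 : (g ≫ q : X ⟶ F) = 1 :=
      pt_unique ⟨W, hWo⟩ (fun s hsW => (dim_lt_one_iff s (hconn s)).1 hsW) X hX _ _
    rw [← hqi, ← Category.assoc, h1, MonObj.one_comp]
  · have hWco : IsOpen Wᶜ := hWc.isOpen_compl
    have key : ∀ s ∈ (⟨Wᶜ, hWco⟩ : B.Opens), Red.IsTrivialGrp (Red.geomFibre s F') := by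
      intro s hsW
      have hnt : ¬ Red.IsTrivialGrp (Red.geomFibre s F) := fun h => hsW ((dim_lt_one_iff s (hconn s)).2 h)
      have hcl : IsClosedImmersion ((Over.pullback (Red.geomPt s)).map i).left := by
        exact Groth.Agent.Sga3B.Parab.Inter.isClosedImmersion_bc _ i hicl
      have hsmF : Smooth (Red.geomFibre s F).hom := inferInstanceAs (Smooth (pullback.snd F.hom (Red.geomPt s)))
      have h1 := (hs _ (Red.geomPt s)).2 (Red.geomFibre s F) ((Over.pullback (Red.geomPt s)).map i) hcl hsmF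
        (hconn s) (Groth.Agent.Sga3B.NormBc.isNormalHom_bc _ _ hnorm)
      exact trivial_of_isIso (Red.geomPt s) φ i i' hiφ hiφ' (h1.resolve_left hnt)
    have h1 : (g ≫ q' : X ⟶ F') = 1 := pt_unique ⟨Wᶜ, hWco⟩ key X hX _ _
    have h2 : g ≫ ψ = 1 := by rw [← hqi', ← Category.assoc, h1, MonObj.one_comp]
    rw [hψ] at h2
    exact (mul_inv_eq_one.mp h2).symm

end K259.Rigid
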